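import Groth.Agent.DimTrdeg.Basic
import Groth.Agent.RegularSerre.Localization
import Mathlib

/-!
# Quotients by monic polynomials in separate variables with coefficients in the maximal ideal
-/

set_option autoImplicit false
universe u

open IsLocalRing

namespace Groth.Agent.EisensteinExt

variable {A : Type u} [CommRing A] {r : ℕ} (d : Fin r → ℕ) (c : Fin r → ℕ → A)

/-- The polynomial `F i`. -/
noncomputable abbrev F : Fin r → MvPolynomial (Fin r) A := fun i =>
  MvPolynomial.X i ^ d i + (Finset.range (d i)).sum fun k =>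
    MvPolynomial.C (c i k) * MvPolynomial.X i ^ k

/-- The univariate polynomial of `F i`. -/
noncomputable def f (i : Fin r) : Polynomial A :=
  Polynomial.X ^ d i + ∑ k : Fin (d i), Polynomial.C (c i k) * Polynomial.X ^ (k : ℕ)

lemma monic_f (i : Fin r) : (f d c i).Monic :=
  Polynomial.monic_X_pow_add (Polynomial.degree_sum_fin_lt _)

lemma aeval_f {S : Type*} [CommRing S] [Algebra A S] (i : Fin r) (t : Fin r → S) :
    Polynomial.aeval (t i) (f d c i) = MvPolynomial.aeval t (F d c i) := by
  rw [f, map_add, map_pow, Polynomial.aeval_X, map_sum, F, map_add, map_pow, MvPolynomial.aeval_X,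
    map_sum, ← Fin.sum_univ_eq_sum_range (fun k => MvPolynomial.aeval t
      (MvPolynomial.C (c i k) * MvPolynomial.X i ^ k))]
  congr 1
  refine Finset.sum_congr rfl fun k _ => ?_
  simp

/-- The quotient ring. -/
abbrev Q : Type u := MvPolynomial (Fin r) A ⧸ Ideal.span (Set.range (F d c))

/-- The class of a variable. -/
noncomputable def t (i : Fin r) : Q d c := Ideal.Quotient.mk _ (MvPolynomial.X i)

lemma mk_eq_aeval (p : MvPolynomial (Fin r) A) :
    (Ideal.Quotient.mk (Ideal.span (Set.range (F d c))) p) = MvPolynomial.aeval (t d c) p := by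
  change Ideal.Quotient.mkₐ A (Ideal.span (Set.range (F d c))) p = _
  refine AlgHom.congr_fun (MvPolynomial.algHom_ext fun i => ?_) p
  rw [MvPolynomial.aeval_X]
  rfl

lemma root_t (i : Fin r) : Polynomial.aeval (t d c i) (f d c i) = 0 := by
  rw [aeval_f, ← mk_eq_aeval, Ideal.Quotient.eq_zero_iff_mem]
  exact Ideal.subset_span ⟨i, rfl⟩

theorem isIntegral : Algebra.IsIntegral A (Q d c) := by
  refine ⟨fun x => ?_⟩
  obtain ⟨p, rfl⟩ := Ideal.Quotient.mk_surjective x
  induction p using MvPolynomial.induction_on with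
  | C a => exact isIntegral_algebraMap
  | add p q hp hq => rw [map_add]; exact hp.add hq
  | mul_X p i hp =>
    rw [map_mul]
    exact hp.mul ⟨f d c i, monic_f d c i, root_t d c i⟩

theorem injective [Nontrivial A] (hd : ∀ i, d i ≠ 0) :
    Function.Injective (algebraMap A (Q d c)) := by
  have key : ∀ (n : ℕ) (g : Fin n → Polynomial A), (∀ i, (g i).Monic) → (∀ i, (g i).natDegree ≠ 0) →
      ∃ (B : Type u) (_ : CommRing B) (_ : Algebra A B),
        Function.Injective (algebraMap A B) ∧ ∃ s : Fin n → B, ∀ i, Polynomial.aeval (s i) (g i) = 0 := by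
    intro n
    induction n with
    | zero => exact fun g _ _ => ⟨A, inferInstance, inferInstance, fun a b h => h, isEmptyElim, isEmptyElim⟩
    | succ n ih =>
      intro g hg hg'
      obtain ⟨B, _, _, hinj, s, hs⟩ := ih (fun i => g i.castSucc) (fun i => hg _) fun i => hg' _
      have hB : Nontrivial B := hinj.nontrivial
      let h := (g (Fin.last n)).map (algebraMap A B)
      have hm : h.Monic := (hg _).map _
      have hdeg : h.degree ≠ 0 := by
        rw [Polynomial.degree_eq_natDegree hm.ne_zero, (hg _).natDegree_map]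
        exact_mod_cast hg' _
      refine ⟨AdjoinRoot h, inferInstance, inferInstance, ?_, Fin.lastCases (AdjoinRoot.root h)
        (fun i => algebraMap B (AdjoinRoot h) (s i)), fun i => ?_⟩
      · rw [IsScalarTower.algebraMap_eq A B (AdjoinRoot h)]
        have hof : Function.Injective (algebraMap B (AdjoinRoot h)) := by
          rw [injective_iff_map_eq_zero]
          intro a ha
          change AdjoinRoot.mk h (Polynomial.C a) = 0 at ha
          rw [AdjoinRoot.mk_eq_zero, ← Polynomial.modByMonic_eq_zero_iff_dvd hm,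
            (Polynomial.modByMonic_eq_self_iff hm).2 (lt_of_le_of_lt Polynomial.degree_C_le
              (lt_of_le_of_ne (Polynomial.zero_le_degree_iff.2 hm.ne_zero) (Ne.symm hdeg)))] at ha
          exact Polynomial.C_eq_zero.1 ha
        exact hof.comp hinj
      · refine Fin.lastCases ?_ (fun i => ?_) i
        · simp only [Fin.lastCases_last]
          rw [← Polynomial.aeval_map_algebraMap B, AdjoinRoot.aeval_eq,
            AdjoinRoot.mk_self]
        · simp only [Fin.lastCases_castSucc]
          rw [Polynomial.aeval_algebraMap_apply, hs, map_zero]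
  obtain ⟨B, _, _, hinj, s, hs⟩ := key r (f d c) (monic_f d c) fun i => by
    have h0 : (∑ k : Fin (d i), Polynomial.C (c i k) * Polynomial.X ^ (k : ℕ)).degree <
        (Polynomial.X ^ d i : Polynomial A).degree := by
      rw [Polynomial.degree_X_pow]
      exact Polynomial.degree_sum_fin_lt _
    rw [f, Polynomial.natDegree_eq_of_degree_eq
      (Polynomial.degree_add_eq_left_of_degree_lt h0), Polynomial.natDegree_X_pow]
    exact hd i
  have hle : ∀ p ∈ Ideal.span (Set.range (F d c)), MvPolynomial.aeval s p = 0 := by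
    intro p hp
    refine Submodule.span_induction ?_ (map_zero _) (fun p q _ _ hp hq => by rw [map_add, hp, hq, add_zero])
      (fun a p _ hp => by rw [smul_eq_mul, map_mul, hp, mul_zero]) hp
    rintro _ ⟨i, rfl⟩
    rw [← aeval_f, hs]
  let φ : Q d c →ₐ[A] B := Ideal.Quotient.liftₐ _ (MvPolynomial.aeval s) hle
  intro a b hab
  exact hinj (by rw [← φ.commutes a, ← φ.commutes b, hab])

variable [IsLocalRing A]

/-- Evaluation at zero in the residue field. -/
noncomputable def eps : MvPolynomial (Fin r) A →+* ResidueField A :=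
  (residue A).comp MvPolynomial.constantCoeff

lemma constantCoeff_F (hd : ∀ i, d i ≠ 0) (i : Fin r) :
    MvPolynomial.constantCoeff (F d c i) = c i 0 := by
  rw [F, map_add, map_pow, MvPolynomial.constantCoeff_X, zero_pow (hd i), zero_add, map_sum]
  rw [Finset.sum_eq_single 0]
  · simp
  · intro k _ hk
    simp [hk]
  · intro h
    exact absurd (Finset.mem_range.2 (Nat.pos_of_ne_zero (hd i))) h

variable (hd : ∀ i, d i ≠ 0) (hc : ∀ i k, c i k ∈ maximalIdeal A)

include hd hc in
lemma span_le_ker_eps : ∀ p ∈ Ideal.span (Set.range (F d c)), eps p = 0 := by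
  intro p hp
  have hle : Ideal.span (Set.range (F d c)) ≤ RingHom.ker eps := Ideal.span_le.2 (by
    rintro _ ⟨i, rfl⟩
    rw [SetLike.mem_coe, RingHom.mem_ker, eps, RingHom.comp_apply, constantCoeff_F d c hd,
      residue_eq_zero_iff]
    exact hc i 0)
  exact hle hp

/-- Evaluation at zero on the quotient. -/
noncomputable def epsQ : Q d c →+* ResidueField A :=
  Ideal.Quotient.lift _ eps (span_le_ker_eps d c hd hc)

lemma epsQ_surjective : Function.Surjective (epsQ d c hd hc) := fun x => by
  obtain ⟨a, rfl⟩ := residue_surjective x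
  exact ⟨Ideal.Quotient.mk _ (MvPolynomial.C a), by simp [epsQ, eps]⟩

/-- Membership in the kernel of evaluation at zero. -/
lemma sub_constantCoeff_mem (p : MvPolynomial (Fin r) A) :
    p - MvPolynomial.C (MvPolynomial.constantCoeff p) ∈
      Ideal.span (Set.range (MvPolynomial.X : Fin r → MvPolynomial (Fin r) A)) := by
  induction p using MvPolynomial.induction_on with
  | C a => simp
  | add p q hp hq =>
    rw [map_add, map_add, add_sub_add_comm]
    exact add_mem hp hq
  | mul_X p i _ =>
    rw [map_mul, MvPolynomial.constantCoeff_X, mul_zero, map_zero, sub_zero]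
    exact Ideal.mul_mem_left _ _ (Ideal.subset_span ⟨i, rfl⟩)

lemma ker_epsQ_eq : RingHom.ker (epsQ d c hd hc) =
    (maximalIdeal A).map (algebraMap A (Q d c)) ⊔ Ideal.span (Set.range (t d c)) := by
  refine le_antisymm (fun x hx => ?_) (sup_le ?_ ?_)
  · obtain ⟨p, rfl⟩ := Ideal.Quotient.mk_surjective x
    have hp : MvPolynomial.constantCoeff p ∈ maximalIdeal A := (residue_eq_zero_iff _).1 hx
    rw [show p = (p - MvPolynomial.C (MvPolynomial.constantCoeff p)) +
      MvPolynomial.C (MvPolynomial.constantCoeff p) by ring, map_add]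
    refine add_mem (Submodule.mem_sup_right ?_)
      (Submodule.mem_sup_left (Ideal.mem_map_of_mem (algebraMap A (Q d c)) hp))
    have h := Ideal.mem_map_of_mem (Ideal.Quotient.mk (Ideal.span (Set.range (F d c))))
      (sub_constantCoeff_mem p)
    rw [Ideal.map_span, ← Set.range_comp] at h
    exact h
  · rw [Ideal.map_le_iff_le_comap]
    intro a ha
    change residue A (MvPolynomial.constantCoeff (MvPolynomial.C a : MvPolynomial (Fin r) A)) = 0
    rw [MvPolynomial.constantCoeff_C, residue_eq_zero_iff]
    exact ha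
  · rw [Ideal.span_le]
    rintro _ ⟨i, rfl⟩
    change residue A (MvPolynomial.constantCoeff (MvPolynomial.X i : MvPolynomial (Fin r) A)) = 0
    rw [MvPolynomial.constantCoeff_X, map_zero]

include hd hc in
lemma eq_ker_epsQ (M : Ideal (Q d c)) [M.IsMaximal] : M = RingHom.ker (epsQ d c hd hc) := by
  have := isIntegral d c
  have hmax : (RingHom.ker (epsQ d c hd hc)).IsMaximal :=
    RingHom.ker_isMaximal_of_surjective _ (epsQ_surjective d c hd hc)
  refine (hmax.eq_of_le (Ideal.IsMaximal.ne_top inferInstance) ?_).symm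
  have hunder : M.comap (algebraMap A (Q d c)) = maximalIdeal A :=
    IsLocalRing.eq_maximalIdeal (Ideal.isMaximal_comap_of_isIntegral_of_isMaximal M)
  have hm : (maximalIdeal A).map (algebraMap A (Q d c)) ≤ M :=
    Ideal.map_le_iff_le_comap.2 hunder.ge
  rw [ker_epsQ_eq]
  refine sup_le hm (Ideal.span_le.2 ?_)
  rintro _ ⟨i, rfl⟩
  refine Ideal.IsPrime.mem_of_pow_mem inferInstance (d i) ?_
  have h := root_t d c i
  rw [f, map_add, map_pow, Polynomial.aeval_X, map_sum, add_eq_zero_iff_eq_neg] at h
  rw [h]
  refine neg_mem (Ideal.sum_mem _ fun k _ => ?_)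
  rw [map_mul, Polynomial.aeval_C]
  exact Ideal.mul_mem_right _ _ (hm (Ideal.mem_map_of_mem _ (hc i k)))

include hd hc in
theorem isLocalRing : IsLocalRing (Q d c) :=
  IsLocalRing.of_unique_max_ideal ⟨RingHom.ker (epsQ d c hd hc),
    RingHom.ker_isMaximal_of_surjective _ (epsQ_surjective d c hd hc),
    fun M hM => @eq_ker_epsQ _ _ _ d c _ hd hc M hM⟩

include hd hc in
theorem surjective_residue (M : Ideal (Q d c)) [M.IsMaximal] :
    Function.Surjective ((Ideal.Quotient.mk M).comp (algebraMap A (Q d c))) := by
  intro y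
  obtain ⟨x, rfl⟩ := Ideal.Quotient.mk_surjective y
  obtain ⟨p, rfl⟩ := Ideal.Quotient.mk_surjective x
  refine ⟨MvPolynomial.constantCoeff p, ?_⟩
  rw [RingHom.comp_apply, Ideal.Quotient.mk_eq_mk_iff_sub_mem]
  rw [eq_ker_epsQ d c hd hc M, RingHom.mem_ker, map_sub]
  change residue A (MvPolynomial.constantCoeff (MvPolynomial.C (MvPolynomial.constantCoeff p) :
    MvPolynomial (Fin r) A)) - residue A (MvPolynomial.constantCoeff p) = 0
  rw [MvPolynomial.constantCoeff_C, sub_self]

end Groth.Agent.EisensteinExt
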