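import Groth.Agent.EisensteinExt.Basic

/-!
# Regularity of quotients by monic polynomials in separate variables
-/

set_option autoImplicit false
universe u

open IsLocalRing

namespace Groth.Agent.EisensteinExt

variable {A : Type u} [CommRing A] [IsRegularLocalRing A] {r : ℕ} (d : Fin r → ℕ)
  (c : Fin r → ℕ → A) (hd : ∀ i, 2 ≤ d i) (hc : ∀ i k, c i k ∈ maximalIdeal A)

include hd in
lemma ne_zero_d : ∀ i, d i ≠ 0 := fun i => by have := hd i; omega

include hd hc in
theorem isRegularRing_iff :
    IsRegularRing (Q d c) ↔
      LinearIndependent (ResidueField A) (fun i => (maximalIdeal A).toCotangent ⟨c i 0, hc i 0⟩) := by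
  classical
  have hd0 := ne_zero_d d hd
  have hloc := isLocalRing d c hd0 hc
  have := isIntegral d c
  have hdim : ringKrullDim (Q d c) = ringKrullDim A :=
    DimTrdeg.ringKrullDim_eq_of_isIntegral A (Q d c) (injective d c hd0)
  have hn := (IsRegularLocalRing.iff_finrank_cotangentSpace A).1 inferInstance
  have hmax : maximalIdeal (Q d c) = RingHom.ker (epsQ d c hd0 hc) :=
    eq_ker_epsQ d c hd0 hc _
  let v : Fin r → CotangentSpace A := fun i => (maximalIdeal A).toCotangent ⟨c i 0, hc i 0⟩
  let W := Submodule.span (ResidueField A) (Set.range v)
  have hc0 : ∀ i, algebraMap A (Q d c) (c i 0) ∈ Ideal.span (Set.range (t d c)) := by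
    intro i
    have h := Ideal.mem_map_of_mem (Ideal.Quotient.mk (Ideal.span (Set.range (F d c))))
      (sub_constantCoeff_mem (F d c i))
    rw [Ideal.map_span, ← Set.range_comp, map_sub, constantCoeff_F d c hd0,
      Ideal.Quotient.eq_zero_iff_mem.2
        (show F d c i ∈ Ideal.span (Set.range (F d c)) from Ideal.subset_span ⟨i, rfl⟩), zero_sub, neg_mem_iff] at h
    exact h
  constructor
  · intro hreg
    have hregl : IsRegularLocalRing (Q d c) := IsRegularLocalRing.of_isRegularRing_of_isLocalRing (Q d c)
    have hfr : (maximalIdeal (Q d c)).spanFinrank = Module.finrank (ResidueField A) (CotangentSpace A) := by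
      have h := hregl.spanFinrank_maximalIdeal
      rw [hdim, ← hn] at h
      exact_mod_cast h
    obtain ⟨S, hcard, hS⟩ := Submodule.FG.exists_span_finset_card_eq_spanFinrank
      (p := maximalIdeal (Q d c)) (IsNoetherian.noetherian _)
    choose lift hlift using fun x : Q d c => Ideal.Quotient.mk_surjective x
    let θ : ∀ p : MvPolynomial (Fin r) A, MvPolynomial.constantCoeff p ∈ maximalIdeal A →
        (CotangentSpace A ⧸ W) × (Fin r → ResidueField A) := fun p h =>
      (W.mkQ ((maximalIdeal A).toCotangent ⟨_, h⟩),
        fun j => residue A (MvPolynomial.constantCoeff (MvPolynomial.pderiv j p)))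
    let U : Submodule (ResidueField A) ((CotangentSpace A ⧸ W) × (Fin r → ResidueField A)) :=
      Submodule.span (ResidueField A) (Set.range fun x : {p : MvPolynomial (Fin r) A //
        p ∈ S.image lift ∧ MvPolynomial.constantCoeff p ∈ maximalIdeal A} => θ x.1 x.2.2)
    have hθ : ∀ p ∈ Ideal.span ((S.image lift : Set (MvPolynomial (Fin r) A)) ∪ Set.range (F d c)),
        ∃ h, θ p h ∈ U := by
      intro p hp
      induction hp using Submodule.span_induction with
      | mem p hp =>
        rcases hp with hp | ⟨i, rfl⟩
        · obtain ⟨x, hx, rfl⟩ := Finset.mem_image.1 hp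
          have hxm : x ∈ maximalIdeal (Q d c) := hS ▸ Submodule.subset_span hx
          have h : MvPolynomial.constantCoeff (lift x) ∈ maximalIdeal A := by
            rw [hmax, RingHom.mem_ker] at hxm
            rw [← residue_eq_zero_iff, ← hxm]
            conv_rhs => rw [← hlift x]
            rfl
          exact ⟨h, Submodule.subset_span ⟨⟨_, hp, h⟩, rfl⟩⟩
        · have h : MvPolynomial.constantCoeff (F d c i) ∈ maximalIdeal A := by
            rw [constantCoeff_F d c hd0]; exact hc i 0
          refine ⟨h, ?_⟩
          have h0 : θ (F d c i) h = 0 := by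
            refine Prod.ext ?_ (funext fun j => ?_)
            · change W.mkQ _ = 0
              rw [Submodule.mkQ_apply, Submodule.Quotient.mk_eq_zero]
              have : (⟨_, h⟩ : maximalIdeal A) = ⟨c i 0, hc i 0⟩ :=
                Subtype.ext (constantCoeff_F d c hd0 i)
              rw [this]
              exact Submodule.subset_span ⟨i, rfl⟩
            · change residue A _ = 0
              rw [F, map_add, map_sum, map_add, map_sum, map_add, map_sum,
                MvPolynomial.pderiv_pow, map_mul, map_mul, map_mul, map_mul, map_pow, map_pow,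
                MvPolynomial.constantCoeff_X, map_zero,
                zero_pow (by have := hd i; omega), mul_zero, zero_mul, zero_add]
              refine Finset.sum_eq_zero fun k _ => ?_
              rw [MvPolynomial.pderiv_C_mul, map_mul, MvPolynomial.constantCoeff_C, map_mul,
                (residue_eq_zero_iff _).2 (hc i k), zero_mul]
          rw [h0]
          exact zero_mem U
      | zero =>
        refine ⟨by simp, ?_⟩
        convert zero_mem U using 1
        refine Prod.ext ?_ (funext fun j => ?_)
        · change W.mkQ ((maximalIdeal A).toCotangent _) = 0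
          rw [show (⟨MvPolynomial.constantCoeff (0 : MvPolynomial (Fin r) A), _⟩ : maximalIdeal A) = 0
            from Subtype.ext (map_zero _), map_zero, map_zero]
        · change residue A _ = 0
          simp
      | add p q _ _ hp hq =>
        obtain ⟨h1, hp⟩ := hp
        obtain ⟨h2, hq⟩ := hq
        refine ⟨by rw [map_add]; exact add_mem h1 h2, ?_⟩
        convert add_mem hp hq using 1
        refine Prod.ext ?_ (funext fun j => ?_)
        · change W.mkQ ((maximalIdeal A).toCotangent _) = W.mkQ _ + W.mkQ _
          exact (congrArg (fun z => W.mkQ ((maximalIdeal A).toCotangent z))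
            (Subtype.ext (map_add _ _ _) : (⟨_, _⟩ : maximalIdeal A) = ⟨_, h1⟩ + ⟨_, h2⟩)).trans
            (by rw [map_add, map_add])
        · change residue A _ = residue A _ + residue A _
          simp
      | smul q p _ hp =>
        obtain ⟨h1, hp⟩ := hp
        refine ⟨by rw [smul_eq_mul, map_mul]; exact Ideal.mul_mem_left _ _ h1, ?_⟩
        convert Submodule.smul_mem U (residue A (MvPolynomial.constantCoeff q)) hp using 1
        refine Prod.ext ?_ (funext fun j => ?_)
        · change W.mkQ ((maximalIdeal A).toCotangent _) = residue A _ • W.mkQ _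
          rw [← map_smul]
          congr 1
          rw [← ResidueField.algebraMap_eq, algebraMap_smul, ← map_smul]
          congr 1
          exact Subtype.ext (by simp)
        · change residue A _ = residue A _ * residue A _
          rw [smul_eq_mul, MvPolynomial.pderiv_mul, map_add, map_mul, map_mul, map_add, map_mul,
            map_mul, (residue_eq_zero_iff _).2 h1, mul_zero, zero_add]
    have hmem : ∀ p : MvPolynomial (Fin r) A, MvPolynomial.constantCoeff p ∈ maximalIdeal A →
        p ∈ Ideal.span ((S.image lift : Set (MvPolynomial (Fin r) A)) ∪ Set.range (F d c)) := by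
      intro p hp
      have hpm : Ideal.Quotient.mk (Ideal.span (Set.range (F d c))) p ∈
          maximalIdeal (Q d c) := by
        rw [hmax, RingHom.mem_ker]
        change residue A (MvPolynomial.constantCoeff p) = 0
        exact (residue_eq_zero_iff _).2 hp
      have himg : maximalIdeal (Q d c) = (Ideal.span (S.image lift : Set _)).map
          (Ideal.Quotient.mk (Ideal.span (Set.range (F d c)))) := by
        rw [Ideal.map_span, Finset.coe_image, ← Set.image_comp]
        refine hS.symm.trans ?_
        congr 1
        ext x
        simp [Function.comp, hlift]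
      rw [himg, ← Ideal.mem_comap,
        Ideal.comap_map_of_surjective _ Ideal.Quotient.mk_surjective, ← RingHom.ker_eq_comap_bot,
        Ideal.mk_ker, ← Ideal.span_union] at hpm
      exact hpm
    have htop : U = ⊤ := by
      have h1 : ∀ w, ((w, 0) : (CotangentSpace A ⧸ W) × (Fin r → ResidueField A)) ∈ U := by
        intro w
        obtain ⟨w, rfl⟩ := W.mkQ_surjective w
        obtain ⟨⟨a, ha⟩, rfl⟩ := (maximalIdeal A).toCotangent_surjective w
        obtain ⟨h, hU⟩ := hθ _ (hmem (MvPolynomial.C a) (by rwa [MvPolynomial.constantCoeff_C]))
        convert hU using 1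
        refine Prod.ext ?_ (funext fun j => ?_)
        · change W.mkQ _ = W.mkQ _
          congr 2
          exact Subtype.ext (MvPolynomial.constantCoeff_C _ a).symm
        · change (0 : ResidueField A) = residue A _
          simp
      have h2 : ∀ i, ((0, Pi.single i 1) : (CotangentSpace A ⧸ W) × (Fin r → ResidueField A)) ∈ U := by
        intro i
        obtain ⟨h, hU⟩ := hθ _ (hmem (MvPolynomial.X i) (by simp))
        convert hU using 1
        refine Prod.ext ?_ (funext fun j => ?_)
        · change 0 = W.mkQ ((maximalIdeal A).toCotangent _)
          rw [show (⟨_, h⟩ : maximalIdeal A) = 0 from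
            Subtype.ext (by simp), map_zero, map_zero]
        · change (Pi.single i 1 : Fin r → ResidueField A) j = residue A _
          rw [MvPolynomial.pderiv_X]
          rcases eq_or_ne j i with rfl | hj
          · simp
          · simp [Pi.single_eq_of_ne hj, Pi.single_eq_of_ne (Ne.symm hj)]
      refine eq_top_iff.2 fun x _ => ?_
      rw [show x = (x.1, (0 : Fin r → ResidueField A)) +
        ∑ i, x.2 i • ((0, Pi.single i 1) : (CotangentSpace A ⧸ W) × (Fin r → ResidueField A)) by
          refine Prod.ext ?_ ?_
          · simp [Prod.fst_sum]
          · rw [Prod.snd_add, Prod.snd_sum, zero_add]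
            funext j
            simp [Finset.sum_apply, Pi.single_apply]]
      exact add_mem (h1 _) (Submodule.sum_mem _ fun i _ => Submodule.smul_mem _ _ (h2 i))
    have hle : Module.finrank (ResidueField A)
        ((CotangentSpace A ⧸ W) × (Fin r → ResidueField A)) ≤ S.card := by
      rw [← finrank_top, ← htop]
      have : Finite {p : MvPolynomial (Fin r) A //
          p ∈ S.image lift ∧ MvPolynomial.constantCoeff p ∈ maximalIdeal A} :=
        Set.Finite.to_subtype (s := {p | p ∈ S.image lift ∧ _})
          ((S.image lift).finite_toSet.subset fun p hp => hp.1)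
      let := Fintype.ofFinite {p : MvPolynomial (Fin r) A //
          p ∈ S.image lift ∧ MvPolynomial.constantCoeff p ∈ maximalIdeal A}
      refine (finrank_range_le_card _).trans ?_
      refine le_trans ?_ (Finset.card_image_le (f := lift) (s := S))
      rw [← Fintype.card_coe]
      exact Fintype.card_le_of_injective (fun x => ⟨x.1, x.2.1⟩)
        fun a b h => Subtype.ext (congrArg Subtype.val h :)
    rw [Module.finrank_prod, Module.finrank_fin_fun, hcard, hfr] at hle
    have hW := W.finrank_quotient_add_finrank
    rw [linearIndependent_iff_card_le_finrank_span, Fintype.card_fin]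
    change r ≤ Module.finrank (ResidueField A) W
    omega
  · intro hli
    have hrW : Module.finrank (ResidueField A) W = r := by
      rw [finrank_span_eq_card hli, Fintype.card_fin]
    obtain ⟨W', hW'⟩ := Submodule.exists_isCompl W
    let b := Module.finBasis (ResidueField A) W'
    choose y hy using fun j => (maximalIdeal A).toCotangent_surjective (b j : CotangentSpace A)
    have hgen : Submodule.span A (Set.range (Sum.elim (fun i => (⟨c i 0, hc i 0⟩ : maximalIdeal A)) y)) =
        ⊤ := by
      rw [← CotangentSpace.span_image_eq_top_iff, ← Set.range_comp, Sum.comp_elim,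
        Set.Sum.elim_range]
      · rw [eq_top_iff, ← hW'.sup_eq_top]
        refine sup_le (Submodule.span_mono ?_) ?_
        · rintro _ ⟨i, rfl⟩
          exact Or.inl ⟨i, rfl⟩
        · intro z hz
          have hz' := Submodule.mem_map_of_mem (f := W'.subtype)
            (b.span_eq.ge (Submodule.mem_top : (⟨z, hz⟩ : W') ∈ ⊤))
          rw [Submodule.map_span] at hz'
          refine Submodule.span_mono ?_ hz'
          rintro _ ⟨_, ⟨j, rfl⟩, rfl⟩
          exact Or.inr ⟨j, hy j⟩
    have hmax' : maximalIdeal (Q d c) ≤
        Ideal.span (Set.range (t d c) ∪ Set.range fun j => algebraMap A (Q d c) (y j : A)) := by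
      rw [hmax, ker_epsQ_eq]
      refine sup_le ?_ (Ideal.span_mono Set.subset_union_left)
      rw [Ideal.map_le_iff_le_comap]
      intro a ha
      have ha' : (⟨a, ha⟩ : maximalIdeal A) ∈ Submodule.span A
          (Set.range (Sum.elim (fun i => (⟨c i 0, hc i 0⟩ : maximalIdeal A)) y)) := by
        rw [hgen]; exact Submodule.mem_top
      have ha'' := Submodule.mem_map_of_mem (f := (maximalIdeal A).subtype) ha'
      rw [Submodule.map_span] at ha''
      refine (Submodule.span_le (p := (Ideal.comap (algebraMap A (Q d c)) _))).2 ?_ ha''
      rintro _ ⟨_, ⟨s, rfl⟩, rfl⟩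
      rw [SetLike.mem_coe, Ideal.mem_comap]
      cases s with
      | inl i => exact Ideal.span_mono Set.subset_union_left (hc0 i)
      | inr j => exact Ideal.subset_span (Or.inr ⟨j, rfl⟩)
    have heq : maximalIdeal (Q d c) =
        Ideal.span (Set.range (t d c) ∪ Set.range fun j => algebraMap A (Q d c) (y j : A)) := by
      refine le_antisymm hmax' (Ideal.span_le.2 ?_)
      rw [hmax, ker_epsQ_eq]
      rintro _ (⟨i, rfl⟩ | ⟨j, rfl⟩)
      · exact Submodule.mem_sup_right (Ideal.subset_span ⟨i, rfl⟩)
      · exact Submodule.mem_sup_left (Ideal.mem_map_of_mem _ (y j).2)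
    have hle : (maximalIdeal (Q d c)).spanFinrank ≤
        Module.finrank (ResidueField A) (CotangentSpace A) := by
      rw [heq]
      refine (Submodule.spanFinrank_span_le_ncard_of_finite
        ((Set.finite_range _).union (Set.finite_range _))).trans ?_
      refine (Set.ncard_union_le _ _).trans ?_
      rw [← Submodule.finrank_add_eq_of_isCompl hW', hrW]
      refine add_le_add ?_ ?_
      · exact (le_of_eq_of_le (congrArg Set.ncard Set.image_univ.symm)
          (Set.ncard_image_le (Set.toFinite _))).trans (by simp)
      · exact (le_of_eq_of_le (congrArg Set.ncard Set.image_univ.symm)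
          (Set.ncard_image_le (Set.toFinite _))).trans (by simp)
    have hregl : IsRegularLocalRing (Q d c) := by
      refine IsRegularLocalRing.of_spanFinrank_maximalIdeal_le _ ?_
      rw [hdim, ← hn]
      exact_mod_cast hle
    exact RegularSerre.isRegularRing_of_isRegularLocalRing _

end Groth.Agent.EisensteinExt
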